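import Mathlib
import Cfsg.Agent.Lib.Helper18.Dihedral
import Cfsg.Agent.Lib.Helper20.Fitting
import Cfsg.Agent.Lib.Helper23.Recog

set_option autoImplicit false

namespace Cfsg.Agent.Lib.Helper18

/-- In a finite nilpotent group there is a normal abelian subgroup containing its centralizer. -/
theorem exists_normal_abelian_self_centralizing (S : Type*) [Group S] [Finite S]
    [hnil : Group.IsNilpotent S] :
    ∃ A : Subgroup S, A.Normal ∧ IsMulCommutative A ∧ Subgroup.centralizer (A : Set S) ≤ A := by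
  classical
  let P : Subgroup S → Prop := fun A => A.Normal ∧ IsMulCommutative A
  have hfin : {A : Subgroup S | P A}.Finite := Set.toFinite _
  have hne : {A : Subgroup S | P A}.Nonempty := ⟨⊥, inferInstance, inferInstance⟩
  obtain ⟨A, hA, hmax⟩ := hfin.exists_maximal hne
  obtain ⟨hAn, hAc⟩ := hA
  refine ⟨A, hAn, hAc, ?_⟩
  by_contra hcon
  have hCn : (Subgroup.centralizer (A : Set S)).Normal := inferInstance
  set C := Subgroup.centralizer (A : Set S) with hC
  have hCbar : (C.map (QuotientGroup.mk' A)).Normal := hCn.map _ (QuotientGroup.mk'_surjective A)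
  have hCne : C.map (QuotientGroup.mk' A) ≠ ⊥ := by
    intro h
    apply hcon
    rw [Subgroup.map_eq_bot_iff, QuotientGroup.ker_mk'] at h
    exact h
  obtain ⟨xb, hxb, hxc, hx1⟩ := Cfsg.Agent.Lib.Helper20.normal_inf_center_ne_bot
    (C.map (QuotientGroup.mk' A)) hCne
  obtain ⟨x, hxC, rfl⟩ := hxb
  have hxA : x ∉ A := by
    intro h
    exact hx1 ((QuotientGroup.eq_one_iff x).mpr h)
  let B := A ⊔ Subgroup.zpowers x
  have hBc : IsMulCommutative B := by
    have hB : B = Subgroup.closure ((A : Set S) ∪ {x}) := by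
      rw [Subgroup.closure_union, Subgroup.closure_eq, ← Subgroup.zpowers_eq_closure]
    rw [hB]
    apply Subgroup.isMulCommutative_closure
    intro u hu v hv
    have hxC : ∀ h ∈ (A : Set S), h * x = x * h := Subgroup.mem_centralizer_iff.mp hxC
    rcases hu with hu | hu <;> rcases hv with hv | hv
    · exact congrArg Subtype.val (mul_comm' (⟨u, hu⟩ : A) ⟨v, hv⟩)
    · rw [Set.mem_singleton_iff] at hv; rw [hv]; exact hxC u hu
    · rw [Set.mem_singleton_iff] at hu; rw [hu]; exact (hxC v hv).symm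
    · rw [Set.mem_singleton_iff] at hu hv; rw [hu, hv]
  have hBn : B.Normal := by
    have hxconj : ∀ g : S, g * x * g⁻¹ ∈ B := by
      intro g
      have h1 := Subgroup.mem_center_iff.mp hxc (QuotientGroup.mk' A g)
      have h2 : QuotientGroup.mk' A (g * x * g⁻¹) = QuotientGroup.mk' A x := by
        rw [map_mul, map_mul, h1, map_inv, mul_inv_cancel_right]
      have h3 : x⁻¹ * (g * x * g⁻¹) ∈ A := QuotientGroup.eq.mp h2.symm
      have h4 : g * x * g⁻¹ = x * (x⁻¹ * (g * x * g⁻¹)) := by group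
      rw [h4]
      exact B.mul_mem (Subgroup.mem_sup_right (Subgroup.mem_zpowers x)) (Subgroup.mem_sup_left h3)
    constructor
    intro b hb g
    have hle : B ≤ B.comap (MulAut.conj g).toMonoidHom := by
      apply sup_le
      · intro u hu
        exact Subgroup.mem_sup_left (hAn.conj_mem u hu g)
      · rw [Subgroup.zpowers_le]
        exact hxconj g
    exact hle hb
  have hle : A ≤ B := le_sup_left
  have := hmax (show P B from ⟨hBn, hBc⟩) hle
  exact hxA (this (Subgroup.mem_sup_right (Subgroup.mem_zpowers x)))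

theorem exists_pow_orderOf_two {S : Type*} [Group S] (hS : IsPGroup 2 S) (w : S) (hw : w ≠ 1) :
    ∃ e : ℕ, orderOf (w ^ (2 ^ e)) = 2 := by
  have : Fact (Nat.Prime 2) := ⟨Nat.prime_two⟩
  obtain ⟨k, hk⟩ := IsPGroup.iff_orderOf.mp hS w
  have hk0 : k ≠ 0 := by
    rintro rfl
    apply hw
    simpa using hk
  obtain ⟨e, rfl⟩ : ∃ e, k = e + 1 := ⟨k - 1, by omega⟩
  refine ⟨e, ?_⟩
  rw [orderOf_pow_of_dvd (by positivity) (by rw [hk]; exact pow_dvd_pow 2 (by omega)), hk,
    pow_succ, Nat.mul_div_cancel_left _ (by positivity)]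

theorem isCoprime_two_pow_of_odd (m : ℕ) (s : ℤ) (hs : Odd s) : IsCoprime ((2 : ℤ) ^ m) s := by
  obtain ⟨t, ht⟩ := hs
  apply IsCoprime.pow_left
  exact ⟨-t, 1, by rw [ht]; ring⟩

/-- In a `2`-group with a unique involution, an element `x ∉ ⟨a⟩` with `x² ∈ ⟨a⟩` normalizing but
not centralizing `⟨a⟩` inverts `a`, and `x²` is the involution. -/
theorem inverts_of_unique_involution {S : Type*} [Group S] (hS : IsPGroup 2 S)
    (huniq : ∀ u v : S, orderOf u = 2 → orderOf v = 2 → u = v)
    (a x : S) (hx : x ∉ Subgroup.zpowers a) (hxx : x * x ∈ Subgroup.zpowers a)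
    (hconj : x⁻¹ * a * x ∈ Subgroup.zpowers a) (hne : x⁻¹ * a * x ≠ a) :
    x⁻¹ * a * x = a⁻¹ ∧ orderOf (x * x) = 2 := by
  have : Fact (Nat.Prime 2) := ⟨Nat.prime_two⟩
  obtain ⟨l, hl⟩ := Subgroup.mem_zpowers_iff.mp hconj
  obtain ⟨j, hj⟩ := Subgroup.mem_zpowers_iff.mp hxx
  obtain ⟨m, hm⟩ := IsPGroup.iff_orderOf.mp hS a
  have ha1 : a ≠ 1 := by
    rintro rfl
    apply hne; group
  have hm0 : m ≠ 0 := by
    rintro rfl
    apply ha1; simpa using hm
  have hN : ∀ i : ℤ, ((2 : ℤ) ^ m ∣ i) ↔ a ^ i = 1 := by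
    intro i
    rw [← orderOf_dvd_iff_zpow_eq_one, hm]; norm_cast
  have E0 : ∀ i : ℤ, x⁻¹ * a ^ i * x = a ^ (l * i) := by
    intro i
    have h1 := conj_zpow (a := x⁻¹) (b := a) (i := i)
    rw [inv_inv] at h1
    rw [← h1, ← hl, zpow_mul]
  obtain ⟨e0, he0⟩ := exists_pow_orderOf_two hS a ha1
  have E1 : ∀ i : ℤ, a ^ (j + (l + 1) * i) ≠ 1 := by
    intro i h
    have h1 : (x * a ^ i) * (x * a ^ i) = a ^ (j + (l + 1) * i) := by
      calc (x * a ^ i) * (x * a ^ i) = (x * x) * (x⁻¹ * a ^ i * x) * a ^ i := by group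
        _ = a ^ (j + (l + 1) * i) := by
          rw [← hj, E0, ← zpow_add, ← zpow_add]; congr 1; ring
    rw [h] at h1
    have h2 : x * a ^ i ≠ 1 := by
      intro h3
      apply hx
      have : x = (a ^ i)⁻¹ := eq_inv_of_mul_eq_one_left h3
      rw [this]
      exact Subgroup.inv_mem _ (Subgroup.zpow_mem_zpowers a i)
    have h3 : orderOf (x * a ^ i) = 2 := orderOf_eq_prime (by rw [pow_two]; exact h1) h2
    have h4 := huniq _ _ h3 he0
    apply hx
    have : x = a ^ (2 ^ e0) * (a ^ i)⁻¹ := by rw [← h4]; group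
    rw [this]
    exact Subgroup.mul_mem _ (Subgroup.pow_mem _ (Subgroup.mem_zpowers a) _)
      (Subgroup.inv_mem _ (Subgroup.zpow_mem_zpowers a i))
  have E2 : a ^ (l * j) = a ^ j := by
    rw [← E0, hj]; group
  have E3 : a ^ (l * l) = a := by
    rw [← E0, hl]
    calc x⁻¹ * (x⁻¹ * a * x) * x = (x * x)⁻¹ * a * (x * x) := by group
      _ = a := by
        rw [← hj, ← zpow_neg]
        nth_rewrite 2 [← zpow_one a]
        rw [← zpow_add, ← zpow_add]
        simp
  have hlodd : Odd l := by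
    have h1 : a ^ (l * l - 1) = 1 := by
      rw [zpow_sub, E3, zpow_one, mul_inv_cancel]
    have h2 := (hN _).mpr h1
    have h3 : (2 : ℤ) ∣ l * l - 1 := (dvd_pow_self 2 hm0).trans h2
    by_contra hcon
    rw [Int.not_odd_iff_even] at hcon
    obtain ⟨r, hr⟩ := hcon
    rw [hr] at h3
    obtain ⟨c, hc⟩ := h3
    have : (r + r) * (r + r) = 2 * (2 * (r * r)) := by ring
    omega
  obtain ⟨s, hs⟩ := hlodd
  have hj1 : a ^ j ≠ 1 := by
    have := E1 0
    simpa using this
  have hE2' : (2 : ℤ) ^ m ∣ (l - 1) * j := by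
    rw [hN, sub_mul, one_mul, zpow_sub, E2, mul_inv_cancel]
  rcases Int.even_or_odd s with hse | hso
  · -- s even : contradiction
    exfalso
    have hs1 : Odd (s + 1) := hse.add_one
    rcases Int.even_or_odd j with ⟨j', hj'⟩ | hjo
    · obtain ⟨u, v, huv⟩ := isCoprime_two_pow_of_odd m (s + 1) hs1
      apply E1 (-j' * v)
      rw [← hN]
      refine ⟨2 * j' * u, ?_⟩
      have : j + (l + 1) * (-j' * v) = 2 * j' * (1 - v * (s + 1)) := by rw [hj', hs]; ring
      have h5 : 1 - v * (s + 1) = u * 2 ^ m := by linarith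
      rw [this, h5]; ring
    · have h1 := (isCoprime_two_pow_of_odd m j hjo).dvd_of_dvd_mul_right hE2'
      rw [hN, zpow_sub, zpow_one, mul_inv_eq_one] at h1
      exact hne (by rw [← hl, h1])
  · -- s odd
    have h1 : (2 : ℤ) ^ m ∣ s * (2 * j) := by
      have : (l - 1) * j = s * (2 * j) := by rw [hs]; ring
      rwa [this] at hE2'
    have h2 := (isCoprime_two_pow_of_odd m s hso).dvd_of_dvd_mul_left h1
    rw [hN] at h2
    have h3 : orderOf (a ^ j) = 2 := by
      apply orderOf_eq_prime _ hj1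
      rw [← zpow_natCast, ← zpow_mul, mul_comm]; exact h2
    refine ⟨?_, by rw [← hj]; exact h3⟩
    have hw : a ^ (l + 1) = 1 := by
      by_contra hw
      obtain ⟨e, he⟩ := exists_pow_orderOf_two hS _ hw
      have h4 := huniq _ _ he h3
      apply E1 (-(2 ^ e : ℕ))
      rw [zpow_add, ← h4, mul_neg, zpow_neg, zpow_mul, zpow_natCast, mul_inv_cancel]
    rw [← hl, eq_inv_iff_mul_eq_one, ← zpow_add_one]
    exact hw

/-- Classification of finite `2`-groups with at most one involution (generators and relations). -/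
theorem cyclic_or_quaternion_rel {S : Type*} [Group S] [Finite S] (hS : IsPGroup 2 S)
    (huniq : ∀ u v : S, orderOf u = 2 → orderOf v = 2 → u = v) :
    IsCyclic S ∨ ∃ (m : ℕ) (a b : S), orderOf a = 2 * 2 ^ (m + 1) ∧ b * b = a ^ (2 ^ (m + 1)) ∧
      b * a * b⁻¹ = a⁻¹ ∧ b ∉ Subgroup.zpowers a ∧ Nat.card S = 4 * 2 ^ (m + 1) := by
  classical
  have : Fact (Nat.Prime 2) := ⟨Nat.prime_two⟩
  have hnil : Group.IsNilpotent S := hS.isNilpotent
  obtain ⟨A, hAn, hAc, hCA⟩ := exists_normal_abelian_self_centralizing S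
  have hAcyc : IsCyclic A := by
    apply isCyclic_of_unique_involution (fun u v => mul_comm' u v) (hS.to_subgroup A)
    intro u v hu hv huu hvv
    apply Subtype.ext
    apply huniq
    · apply orderOf_eq_prime
      · rw [pow_two]; exact congrArg Subtype.val huu
      · intro h; exact hu (Subtype.ext h)
    · apply orderOf_eq_prime
      · rw [pow_two]; exact congrArg Subtype.val hvv
      · intro h; exact hv (Subtype.ext h)
  obtain ⟨⟨a, haA⟩, hgen⟩ := hAcyc.exists_generator
  have hA : ∀ s, s ∈ A ↔ s ∈ Subgroup.zpowers a := by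
    intro s
    constructor
    · intro hs
      obtain ⟨k, hk⟩ := Subgroup.mem_zpowers_iff.mp (hgen ⟨s, hs⟩)
      refine Subgroup.mem_zpowers_iff.mpr ⟨k, ?_⟩
      have := congrArg Subtype.val hk
      simpa using this
    · intro hs
      obtain ⟨k, rfl⟩ := Subgroup.mem_zpowers_iff.mp hs
      exact A.zpow_mem haA k
  have hAeq : A = Subgroup.zpowers a := Subgroup.ext hA
  by_cases hAtop : ∀ s, s ∈ A
  · left
    exact ⟨⟨a, fun s => (hA s).mp (hAtop s)⟩⟩
  right
  push Not at hAtop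
  obtain ⟨b, hb⟩ := hAtop
  have hcent : ∀ y, y⁻¹ * a * y = a → y ∈ A := by
    intro y hy
    apply hCA
    rw [Subgroup.mem_centralizer_iff]
    intro s hs
    obtain ⟨k, rfl⟩ := Subgroup.mem_zpowers_iff.mp ((hA s).mp hs)
    have h1 : a * y = y * a := by
      calc a * y = y * (y⁻¹ * a * y) := by group
        _ = y * a := by rw [hy]
    exact ((Commute.zpow_left (show Commute a y from h1) k)).eq
  have key1 : ∀ y, y ∉ A → y * y ∈ A → y⁻¹ * a * y = a⁻¹ ∧ orderOf (y * y) = 2 := by
    intro y hy hyy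
    apply inverts_of_unique_involution hS huniq a y
    · rwa [← hA]
    · rwa [← hA]
    · rw [← hA]
      have := hAn.conj_mem a haA y⁻¹
      simpa using this
    · intro h; exact hy (hcent y h)
  obtain ⟨M, hM⟩ := IsPGroup.iff_orderOf.mp hS a
  have key2 : ∀ y, y ∉ A → y * y ∈ A := by
    intro y hy
    by_contra hyy
    have hex : ∃ e : ℕ, y ^ (2 ^ e) ∈ A := by
      obtain ⟨e, he⟩ := hS y
      exact ⟨e, by rw [he]; exact A.one_mem⟩
    set e := Nat.find hex with he
    have he1 : y ^ (2 ^ e) ∈ A := Nat.find_spec hex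
    have he2 : 2 ≤ e := by
      by_contra hlt
      have : e = 0 ∨ e = 1 := by omega
      rcases this with h0 | h0
      · rw [h0] at he1; simp at he1; exact hy he1
      · rw [h0] at he1; simp only [pow_one, pow_two] at he1; exact hyy he1
    obtain ⟨f, hf⟩ : ∃ f, e = f + 2 := ⟨e - 2, by omega⟩
    have he3 : y ^ (2 ^ (f + 1)) ∉ A := Nat.find_min hex (by omega)
    set y' := y ^ (2 ^ f) with hy'
    have h1 : y' * y' = y ^ (2 ^ (f + 1)) := by
      rw [hy', ← pow_add, pow_succ 2 f, mul_two]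
    have h2 : (y' * y') * (y' * y') = y ^ (2 ^ e) := by
      rw [h1, ← pow_add, hf, pow_succ 2 (f + 1), mul_two]
    have h3 := (key1 (y' * y') (by rw [h1]; exact he3) (by rw [h2]; exact he1)).1
    have h4 : y'⁻¹ * a * y' ∈ Subgroup.zpowers a := by
      rw [← hA]
      have := hAn.conj_mem a haA y'⁻¹
      simpa using this
    obtain ⟨k, hk⟩ := Subgroup.mem_zpowers_iff.mp h4
    have h5 : (y' * y')⁻¹ * a * (y' * y') = a ^ (k * k) := by
      calc (y' * y')⁻¹ * a * (y' * y') = y'⁻¹ * (y'⁻¹ * a * y') * y' := by group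
        _ = y'⁻¹ * a ^ k * y' := by rw [hk]
        _ = (y'⁻¹ * a * y') ^ k := by
          have := conj_zpow (a := y'⁻¹) (b := a) (i := k)
          rw [inv_inv] at this
          exact this.symm
        _ = a ^ (k * k) := by rw [← hk, zpow_mul]
    rw [h3] at h5
    have h6 : a ^ (k * k + 1) = 1 := by
      rw [zpow_add, ← h5, zpow_one, inv_mul_cancel]
    have h7 : ((2 ^ M : ℕ) : ℤ) ∣ k * k + 1 := by
      rw [← hM]; exact orderOf_dvd_iff_zpow_eq_one.mpr h6
    have haa : a * a ≠ 1 := by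
      intro h
      have h8 : a⁻¹ = a := inv_eq_of_mul_eq_one_left h
      rw [h8] at h3
      exact he3 (by rw [← h1]; exact hcent _ h3)
    have hM2 : 2 ≤ M := by
      by_contra hlt
      apply haa
      have h9 : orderOf a ∣ 2 := by
        rw [hM]
        have : M = 0 ∨ M = 1 := by omega
        rcases this with h0 | h0 <;> rw [h0] <;> norm_num
      rw [← pow_two]
      exact orderOf_dvd_iff_pow_eq_one.mp h9
    have h10 : (4 : ℤ) ∣ k * k + 1 := by
      refine Dvd.dvd.trans ?_ h7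
      push_cast
      exact pow_dvd_pow (2 : ℤ) hM2
    rcases Int.even_or_odd' k with ⟨r, hr | hr⟩
    · rw [hr] at h10
      obtain ⟨c, hc⟩ := h10
      have : 2 * r * (2 * r) = 4 * (r * r) := by ring
      omega
    · rw [hr] at h10
      obtain ⟨c, hc⟩ := h10
      have : (2 * r + 1) * (2 * r + 1) = 4 * (r * r + r) + 1 := by ring
      omega
  obtain ⟨hb1, hb2⟩ := key1 b hb (key2 b hb)
  have haa : a * a ≠ 1 := by
    intro h
    have h8 : a⁻¹ = a := inv_eq_of_mul_eq_one_left h
    rw [h8] at hb1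
    exact hb (hcent _ hb1)
  have hM2 : 2 ≤ M := by
    by_contra hlt
    apply haa
    have h9 : orderOf a ∣ 2 := by
      rw [hM]
      have : M = 0 ∨ M = 1 := by omega
      rcases this with h0 | h0 <;> rw [h0] <;> norm_num
    rw [← pow_two]
    exact orderOf_dvd_iff_pow_eq_one.mp h9
  obtain ⟨m, rfl⟩ : ∃ m, M = m + 2 := ⟨M - 2, by omega⟩
  have hidx : A.index = 2 := by
    rw [Subgroup.index_eq_two_iff]
    refine ⟨b, fun s => ?_⟩
    by_cases hs : s ∈ A
    · right
      refine ⟨hs, fun h => hb ?_⟩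
      have : b = s⁻¹ * (s * b) := by group
      rw [this]; exact A.mul_mem (A.inv_mem hs) h
    · left
      refine ⟨?_, hs⟩
      apply hcent
      have hs1 := (key1 s hs (key2 s hs)).1
      calc (s * b)⁻¹ * a * (s * b) = b⁻¹ * (s⁻¹ * a * s) * b := by group
        _ = b⁻¹ * a⁻¹ * b := by rw [hs1]
        _ = (b⁻¹ * a * b)⁻¹ := by group
        _ = a := by rw [hb1, inv_inv]
  refine ⟨m, a, b, ?_, ?_, ?_, ?_, ?_⟩
  · rw [hM]; ring
  · apply huniq _ _ hb2
    rw [orderOf_pow_of_dvd (by positivity) (by rw [hM]; exact pow_dvd_pow 2 (by omega)), hM,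
      pow_succ 2 (m + 1), Nat.mul_div_cancel_left _ (by positivity)]
  · have : a = b * a⁻¹ * b⁻¹ := by rw [← hb1]; group
    calc b * a * b⁻¹ = (b * a⁻¹ * b⁻¹)⁻¹ := by group
      _ = a⁻¹ := by rw [← this]
  · rwa [← hA]
  · rw [← Subgroup.card_mul_index A, hidx, hAeq, Nat.card_zpowers, hM]; ring

/-- A finite `2`-group with at most one involution is cyclic or generalized quaternion. -/
theorem cyclic_or_quaternion_of_unique_involution {S : Type*} [Group S] [Finite S]
    (hS : IsPGroup 2 S) (huniq : ∀ u v : S, orderOf u = 2 → orderOf v = 2 → u = v) :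
    IsCyclic S ∨ ∃ m : ℕ, Nonempty (S ≃* QuaternionGroup (2 ^ (m + 1))) := by
  rcases cyclic_or_quaternion_rel hS huniq with h | ⟨m, a, b, h1, h2, h3, h4, h5⟩
  · exact Or.inl h
  · exact Or.inr ⟨m, Cfsg.Agent.Lib.Helper23.nonempty_mulEquiv_quaternionGroup _ a b h1 h2 h3 h4 h5⟩

end Cfsg.Agent.Lib.Helper18
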