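import Mathlib

set_option autoImplicit false

namespace Cfsg.Agent.Lib.Helper18

theorem sq_eq_one_of_orderOf_two {G : Type*} [Group G] {a : G} (ha : orderOf a = 2) : a * a = 1 := by
  have := pow_orderOf_eq_one a
  rwa [ha, pow_two] at this

theorem inv_eq_self_of_orderOf_two {G : Type*} [Group G] {a : G} (ha : orderOf a = 2) : a⁻¹ = a :=
  inv_eq_of_mul_eq_one_left (sq_eq_one_of_orderOf_two ha)

theorem ne_one_of_orderOf_two {G : Type*} [Group G] {a : G} (ha : orderOf a = 2) : a ≠ 1 := by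
  rintro rfl
  simp at ha

theorem orderOf_two_of_sq {G : Type*} [Group G] {a : G} (h : a * a = 1) (h1 : a ≠ 1) :
    orderOf a = 2 := by
  have : Fact (Nat.Prime 2) := ⟨Nat.prime_two⟩
  exact orderOf_eq_prime (by rwa [pow_two]) h1

/-- An involution inverts its product with another involution. -/
theorem conj_pow_mul {G : Type*} [Group G] {a b : G} (ha : a * a = 1) (hb : b * b = 1) (k : ℕ) :
    a * (a * b) ^ k = ((a * b) ^ k)⁻¹ * a := by
  have hainv : a⁻¹ = a := inv_eq_of_mul_eq_one_left ha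
  have hbinv : b⁻¹ = b := inv_eq_of_mul_eq_one_left hb
  induction k with
  | zero => simp
  | succ k ih =>
    rw [pow_succ, ← mul_assoc, ih, mul_inv_rev, mul_inv_rev, hainv, hbinv]
    calc ((a * b) ^ k)⁻¹ * a * (a * b) = ((a * b) ^ k)⁻¹ * (a * a) * b := by group
      _ = ((a * b) ^ k)⁻¹ * b := by rw [ha, mul_one]
      _ = ((a * b) ^ k)⁻¹ * (b * (a * a)) := by rw [ha, mul_one]
      _ = ((a * b) ^ k)⁻¹ * (a * b)⁻¹ * a := by rw [mul_inv_rev, hainv, hbinv]; group
      _ = (a * b)⁻¹ * ((a * b) ^ k)⁻¹ * a := by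
          congr 1
          rw [← mul_inv_rev, ← mul_inv_rev, ← pow_succ, ← pow_succ']
      _ = b * a * ((a * b) ^ k)⁻¹ * a := by rw [mul_inv_rev, hainv, hbinv]

/-- The dihedral lemma: two involutions of a finite group are conjugate, or some involution
(a power of their product) commutes with both. -/
theorem isConj_or_exists_involution {G : Type*} [Group G] [Finite G] {a b : G}
    (ha : orderOf a = 2) (hb : orderOf b = 2) :
    IsConj a b ∨ ∃ u : G, orderOf u = 2 ∧ Commute u a ∧ Commute u b ∧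
      u ∈ Subgroup.zpowers (a * b) := by
  have ha2 := sq_eq_one_of_orderOf_two ha
  have hb2 := sq_eq_one_of_orderOf_two hb
  have hainv := inv_eq_self_of_orderOf_two ha
  have hbinv := inv_eq_self_of_orderOf_two hb
  set c := a * b with hc
  rcases Nat.even_or_odd' (orderOf c) with ⟨k, hk | hk⟩
  · right
    have hpos : 0 < orderOf c := orderOf_pos c
    have hk0 : 0 < k := by omega
    have hu2 : c ^ k * c ^ k = 1 := by
      rw [← pow_add, ← two_mul, ← hk, pow_orderOf_eq_one]
    have hu1 : c ^ k ≠ 1 := by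
      intro h
      have := orderOf_le_of_pow_eq_one hk0 h
      omega
    have huinv : (c ^ k)⁻¹ = c ^ k := inv_eq_of_mul_eq_one_left hu2
    have hcomm_a : Commute (c ^ k) a := by
      have := conj_pow_mul ha2 hb2 k
      rw [← hc, huinv] at this
      exact this.symm
    refine ⟨c ^ k, orderOf_two_of_sq hu2 hu1, hcomm_a, ?_, Subgroup.pow_mem _ (Subgroup.mem_zpowers c) k⟩
    -- `b = a * c`
    have hbc : b = a * c := by rw [hc, ← mul_assoc, ha2, one_mul]
    rw [hbc]
    exact hcomm_a.mul_right (Commute.pow_self c k)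
  · left
    -- `c ^ (2k+1) = 1`
    have h1 : c ^ k * c ^ k * c = 1 := by
      rw [← pow_add, ← pow_succ, ← two_mul, ← hk, pow_orderOf_eq_one]
    have h2 := conj_pow_mul ha2 hb2 k
    rw [← hc] at h2
    rw [isConj_iff]
    refine ⟨a * (c ^ k)⁻¹, ?_⟩
    have h4 : c = (c ^ k)⁻¹ * (c ^ k)⁻¹ := by
      rw [← mul_inv_rev]
      exact eq_inv_of_mul_eq_one_right h1
    calc a * (c ^ k)⁻¹ * a * (a * (c ^ k)⁻¹)⁻¹
        = a * ((c ^ k)⁻¹ * (a * c ^ k)) * a⁻¹ := by group
      _ = a * ((c ^ k)⁻¹ * ((c ^ k)⁻¹ * a)) * a⁻¹ := by rw [h2]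
      _ = a * ((c ^ k)⁻¹ * (c ^ k)⁻¹) := by group
      _ = a * c := by rw [← h4]
      _ = b := by rw [hc, ← mul_assoc, ha2, one_mul]

end Cfsg.Agent.Lib.Helper18
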