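import Mathlib

set_option autoImplicit false

/-!
# Conjugacy of `p`-elements modulo a normal `p'`-subgroup

If `N` is a normal subgroup of order prime to `p` and `u`, `v` are `p`-elements with
`u⁻¹ v ∈ N`, then `v = n u n⁻¹` for some `n ∈ N`.
-/

namespace Cfsg.Agent.Lib.Helper18

theorem exists_conj_of_pprime_normal {G : Type*} [Group G] [Finite G] {p : ℕ} [Fact p.Prime]
    (N : Subgroup G) [hN : N.Normal] (hNp : ¬ p ∣ Nat.card N) {u v : G}
    (hu : ∃ k : ℕ, u ^ p ^ k = 1) (hv : ∃ k : ℕ, v ^ p ^ k = 1) (huv : u⁻¹ * v ∈ N) :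
    ∃ n ∈ N, n * u * n⁻¹ = v := by
  classical
  obtain ⟨a, ha⟩ := hu
  obtain ⟨b, hb⟩ := hv
  haveI : Fintype N := Fintype.ofFinite N
  have hmem : ∀ n : N, v * n * u⁻¹ ∈ N := by
    intro n
    have h1 : v * n * u⁻¹ = u * ((u⁻¹ * v) * n) * u⁻¹ := by group
    rw [h1]
    exact hN.conj_mem _ (N.mul_mem huv n.2) u
  let f : Function.End N := fun n => ⟨v * n * u⁻¹, hmem n⟩
  have hf : ∀ (i : ℕ) (n : N), (((f ^ i) n : N) : G) = v ^ i * n * (u ^ i)⁻¹ := by
    intro i
    induction i with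
    | zero =>
      intro n
      simp only [pow_zero, one_mul, inv_one, mul_one]
      rfl
    | succ i ih =>
      intro n
      rw [pow_succ']
      change v * (((f ^ i) n : N) : G) * u⁻¹ = _
      rw [ih, pow_succ', pow_succ']
      have hc : u * u ^ i = u ^ i * u := by rw [← pow_succ, ← pow_succ']
      rw [hc]
      group
  have hfp : f ^ p ^ (a + b) = 1 := by
    funext n
    apply Subtype.ext
    rw [hf]
    have h1 : v ^ p ^ (a + b) = 1 := by rw [pow_add, mul_comm, pow_mul, hb, one_pow]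
    have h2 : u ^ p ^ (a + b) = 1 := by rw [pow_add, pow_mul, ha, one_pow]
    rw [h1, h2]
    simp only [one_mul, inv_one, mul_one]
    rfl
  have hmod := Equiv.Perm.card_fixedPoints_modEq hfp
  have hne : Fintype.card (Function.fixedPoints f) ≠ 0 := by
    intro h0
    rw [h0] at hmod
    apply hNp
    rw [Nat.card_eq_fintype_card]
    exact (Nat.modEq_zero_iff_dvd).1 hmod
  obtain ⟨⟨n, hn⟩⟩ := Fintype.card_pos_iff.1 (Nat.pos_of_ne_zero hne)
  refine ⟨n, n.2, ?_⟩
  have h1 : v * (n : G) * u⁻¹ = n := congrArg Subtype.val hn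
  calc (n : G) * u * (n : G)⁻¹ = (v * (n : G) * u⁻¹) * u * (n : G)⁻¹ := by rw [h1]
    _ = v := by group

end Cfsg.Agent.Lib.Helper18
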