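import Mathlib

namespace Cfsg.Agent.Lib.Helper18

open Subgroup MulAction

/-- Transfer of a central involution `c` of a Sylow 2-subgroup `S` into `ℤˣ`: if `ϕ` takes the
value `-1` on all `N_G(S)`-conjugates of `c`, the transfer of `c` is `-1`. -/
theorem transfer_central_involution {G : Type*} [Group G] [Finite G] (S : Sylow 2 G) (c : G)
    (hcS : c ∈ (S : Subgroup G)) (hc2 : c ^ 2 = 1) (hcZ : ∀ s ∈ (S : Subgroup G), s * c = c * s)
    (ϕ : (S : Subgroup G) →* ℤˣ)
    (hN : ∀ g ∈ Subgroup.normalizer ((S : Subgroup G) : Set G),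
      ∀ h : g⁻¹ * c * g ∈ (S : Subgroup G), ϕ ⟨g⁻¹ * c * g, h⟩ = -1) :
    MonoidHom.transfer ϕ c = -1 := by
  classical
  have : Fact (Nat.Prime 2) := ⟨Nat.prime_two⟩
  have : Fintype (G ⧸ (S : Subgroup G)) := Fintype.ofFinite _
  let u : G → ℤˣ := fun x => if h : x ∈ (S : Subgroup G) then ϕ ⟨x, h⟩ else 1
  have hu_pos : ∀ x (h : x ∈ (S : Subgroup G)), u x = ϕ ⟨x, h⟩ := fun x h => dif_pos h
  have hu_neg : ∀ x, x ∉ (S : Subgroup G) → u x = 1 := fun x h => dif_neg h
  have hu_conj : ∀ x, ∀ s ∈ (S : Subgroup G), u (s⁻¹ * x * s) = u x := by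
    intro x s hs
    by_cases hx : x ∈ (S : Subgroup G)
    · have h1 : s⁻¹ * x * s ∈ (S : Subgroup G) :=
        mul_mem (mul_mem (inv_mem hs) hx) hs
      rw [hu_pos _ h1, hu_pos _ hx]
      have : (⟨s⁻¹ * x * s, h1⟩ : (S : Subgroup G)) = (⟨s, hs⟩)⁻¹ * ⟨x, hx⟩ * ⟨s, hs⟩ := rfl
      rw [this, map_mul, map_mul, map_inv, mul_comm, ← mul_assoc, mul_inv_cancel, one_mul]
    · have h1 : s⁻¹ * x * s ∉ (S : Subgroup G) := by
        intro h
        apply hx
        have := mul_mem (mul_mem hs h) (inv_mem hs)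
        simpa [mul_assoc] using this
      rw [hu_neg _ h1, hu_neg _ hx]
  let v : G ⧸ (S : Subgroup G) → ℤˣ := fun ω => u (ω.out⁻¹ * c * ω.out)
  have hv_mk : ∀ g : G, v (g : G ⧸ (S : Subgroup G)) = u (g⁻¹ * c * g) := by
    intro g
    obtain ⟨s, hs⟩ := QuotientGroup.mk_out_eq_mul (S : Subgroup G) g
    show u ((g : G ⧸ (S : Subgroup G)).out⁻¹ * c * (g : G ⧸ (S : Subgroup G)).out) = _
    rw [hs, ← hu_conj (g⁻¹ * c * g) s s.2]
    congr 1
    group
  have hfix : ∀ ω : G ⧸ (S : Subgroup G), c • ω = ω ↔ ω.out⁻¹ * c * ω.out ∈ (S : Subgroup G) := by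
    intro ω
    conv_lhs => rw [← QuotientGroup.out_eq' ω]
    rw [MulAction.Quotient.smul_mk, eq_comm, QuotientGroup.eq, mul_assoc]
    exact Iff.rfl
  have hT : MonoidHom.transfer ϕ c = ∏ ω : G ⧸ (S : Subgroup G), v ω := by
    have : Fintype (Quotient (orbitRel (zpowers c) (G ⧸ (S : Subgroup G)))) := Fintype.ofFinite _
    rw [MonoidHom.transfer_eq_prod_quotient_orbitRel_zpowers_quot]
    have key0 : ∀ (r : ℕ) (ω : G ⧸ (S : Subgroup G))
        (hmem : ω.out⁻¹ * c ^ r * ω.out ∈ (S : Subgroup G)),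
        r = Function.minimalPeriod (c • ·) ω → ϕ ⟨ω.out⁻¹ * c ^ r * ω.out, hmem⟩ = v ω := by
      intro r ω hmem hr
      have hdvd : r ∣ 2 := by
        rw [hr]
        apply Function.IsPeriodicPt.minimalPeriod_dvd
        show (c • ·)^[2] ω = ω
        rw [smul_iterate, hc2]
        exact one_smul _ _
      rcases (Nat.dvd_prime Nat.prime_two).mp hdvd with h1 | h2
      · subst h1
        rw [← hu_pos]
        show _ = u _
        rw [pow_one]
      · subst h2
        have h1 : (⟨ω.out⁻¹ * c ^ 2 * ω.out, hmem⟩ : (S : Subgroup G)) = 1 := by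
          apply Subtype.ext
          simp [hc2]
        rw [h1, map_one]
        symm
        apply hu_neg
        rw [← hfix]
        intro hfx
        have : Function.minimalPeriod (c • ·) ω = 1 :=
          Function.minimalPeriod_eq_one_iff_isFixedPt.mpr hfx
        omega
    rw [Finset.prod_congr rfl (fun q _ => key0 _ q.out _ rfl)]
    refine Finset.prod_bij_ne_one (fun q _ _ => q.out) (fun _ _ _ => Finset.mem_univ _) ?_ ?_
      (fun _ _ _ => rfl)
    · intro a _ _ b _ _ hab
      exact Quotient.out_injective hab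
    · intro ω _ hω
      have hfx : c • ω = ω := by
        rw [hfix]
        by_contra hnot
        exact hω (hu_neg _ hnot)
      refine ⟨Quotient.mk _ ω, Finset.mem_univ _, ?_, ?_⟩
      · have h1 : (Quotient.mk (orbitRel (zpowers c) (G ⧸ (S : Subgroup G))) ω).out = ω := by
          have h2 := Quotient.mk_out (s := orbitRel (zpowers c) (G ⧸ (S : Subgroup G))) ω
          have h3 : (Quotient.mk (orbitRel (zpowers c) (G ⧸ (S : Subgroup G))) ω).out ∈
              MulAction.orbit (zpowers c) ω := h2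
          obtain ⟨⟨z, hz⟩, hz'⟩ := h3
          obtain ⟨k, rfl⟩ := Subgroup.mem_zpowers_iff.mp hz
          rw [← hz']
          show c ^ k • ω = ω
          exact zpow_smul_eq_iff_minimalPeriod_dvd.mpr (by
            rw [Function.minimalPeriod_eq_one_iff_isFixedPt.mpr hfx]; simp)
        rw [h1]; exact hω
      · have h2 := Quotient.mk_out (s := orbitRel (zpowers c) (G ⧸ (S : Subgroup G))) ω
        have h3 : (Quotient.mk (orbitRel (zpowers c) (G ⧸ (S : Subgroup G))) ω).out ∈
            MulAction.orbit (zpowers c) ω := h2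
        obtain ⟨⟨z, hz⟩, hz'⟩ := h3
        obtain ⟨k, rfl⟩ := Subgroup.mem_zpowers_iff.mp hz
        rw [← hz']
        show c ^ k • ω = ω
        exact zpow_smul_eq_iff_minimalPeriod_dvd.mpr (by
          rw [Function.minimalPeriod_eq_one_iff_isFixedPt.mpr hfx]; simp)
  rw [hT]
  -- parity
  have hv_smul : ∀ (s : (S : Subgroup G)) (ω : G ⧸ (S : Subgroup G)), v (s • ω) = v ω := by
    intro s ω
    conv_lhs => rw [← QuotientGroup.out_eq' ω]
    have : s • ((ω.out : G) : G ⧸ (S : Subgroup G)) = (((s : G) * ω.out : G) : G ⧸ (S : Subgroup G)) := rfl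
    rw [this, hv_mk]
    show _ = u _
    congr 1
    have := hcZ s s.2
    calc ((s : G) * ω.out)⁻¹ * c * ((s : G) * ω.out)
        = ω.out⁻¹ * ((s : G)⁻¹ * (c * s)) * ω.out := by group
      _ = ω.out⁻¹ * ((s : G)⁻¹ * (s * c)) * ω.out := by rw [this]
      _ = _ := by group
  let X : SubMulAction (S : Subgroup G) (G ⧸ (S : Subgroup G)) :=
    { carrier := {ω | v ω = -1}
      smul_mem' := fun s ω h => by
        show v (s • ω) = -1
        rw [hv_smul]; exact h }
  have hXmem : ∀ ω, ω ∈ X ↔ v ω = -1 := fun ω => Iff.rfl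
  have hfixv : ∀ ω ∈ fixedPoints (S : Subgroup G) (G ⧸ (S : Subgroup G)), v ω = -1 := by
    intro ω hω
    rw [← QuotientGroup.out_eq' ω] at hω
    have hn := (Sylow.mem_fixedPoints_mul_left_cosets_iff_mem_normalizer).mp hω
    have hmem : ω.out⁻¹ * c * ω.out ∈ (S : Subgroup G) := by
      rw [← hfix]
      rw [QuotientGroup.out_eq' ω] at hω
      exact hω ⟨c, hcS⟩
    show u _ = -1
    rw [hu_pos _ hmem]
    exact hN _ hn hmem
  have hcardX : Nat.card X ≡ Nat.card (fixedPoints (S : Subgroup G) X) [MOD 2] :=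
    S.2.card_modEq_card_fixedPoints X
  have hcardΩ : Nat.card (G ⧸ (S : Subgroup G)) ≡
      Nat.card (fixedPoints (S : Subgroup G) (G ⧸ (S : Subgroup G))) [MOD 2] :=
    S.2.card_modEq_card_fixedPoints _
  have heq : Nat.card (fixedPoints (S : Subgroup G) X) =
      Nat.card (fixedPoints (S : Subgroup G) (G ⧸ (S : Subgroup G))) := by
    apply Nat.card_congr
    refine ⟨fun x => ⟨x.1.1, fun s => congrArg Subtype.val (x.2 s)⟩,
      fun y => ⟨⟨y.1, hfixv y.1 y.2⟩, fun s => Subtype.ext (y.2 s)⟩, fun x => rfl, fun y => rfl⟩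
  have hodd : Odd (Nat.card X) := by
    have h1 : Nat.card X ≡ (S : Subgroup G).index [MOD 2] := by
      rw [heq] at hcardX
      exact hcardX.trans hcardΩ.symm
    have h2 := S.not_dvd_index
    have h3 : (S : Subgroup G).index % 2 = 1 := Nat.two_dvd_ne_zero.mp h2
    rw [Nat.odd_iff, h1, h3]
  have hprod : ∏ ω : G ⧸ (S : Subgroup G), v ω = (-1) ^ (Nat.card X) := by
    have h1 : ∀ ω, v ω = if v ω = -1 then -1 else 1 := by
      intro ω
      rcases Int.units_eq_one_or (v ω) with h | h <;> simp [h]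
    rw [Finset.prod_congr rfl (fun ω _ => h1 ω), Finset.prod_ite, Finset.prod_const,
      Finset.prod_const_one, mul_one]
    congr 1
    rw [Nat.card_eq_fintype_card, ← Fintype.card_subtype]
    exact Fintype.card_congr (Equiv.refl _)
  rw [hprod, hodd.neg_one_pow]

/-- A homomorphism to `ℤˣ` attaining `-1` has a kernel of index 2. -/
theorem index_ker_of_apply_eq_neg_one {G : Type*} [Group G] (T : G →* ℤˣ) (x : G)
    (hT : T x = -1) : T.ker.index = 2 := by
  rw [Subgroup.index_ker]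
  have hrange : T.range = ⊤ := by
    rw [eq_top_iff]
    intro u _
    rcases Int.units_eq_one_or u with rfl | rfl
    · exact T.range.one_mem
    · exact ⟨x, hT⟩
  rw [hrange, Subgroup.card_top]
  simp

end Cfsg.Agent.Lib.Helper18
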